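import Groth.Agent.L28.Transfer.Basic
import Groth.Agent.L28.Noeth.Constr
import Groth.Agent.L28.Lisse.Global
import Groth.Agent.L28.Lisse.Abstract

/-!
Constructible abelian sheaves on Noetherian schemes.
-/

set_option autoImplicit false

universe u

open CategoryTheory CategoryTheory.Limits AlgebraicGeometry Opposite

set_option backward.isDefEq.respectTransparency.types false

namespace Groth.L28.Transfer

variable {X : Scheme.{u}}

theorem isConstructible_of_iso {F G : EtCoh.Ab X} (e : F ≅ G) (h : EtPBC.IsConstructible F) :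
    EtPBC.IsConstructible G := by
  rw [Strata.isConstructible_iff] at h ⊢
  exact h.mono fun T g hg => Strata.isFLC_of_iso ((EtCoh.pull g).mapIso e) hg

theorem nsmul_id {F : EtCoh.Ab X} {n : ℕ} (h : EtCoh.KilledBy n F) : n • 𝟙 F = 0 := by
  refine Sheaf.hom_ext (NatTrans.ext (funext fun U => ConcreteCategory.hom_ext _ _ fun s => ?_))
  exact h U.unop s

theorem nsmul_of_E {F : EtModW.Mod Z.{u} X} {n : ℕ} (h : n • 𝟙 ((E X).obj F) = 0) : n • 𝟙 F = 0 := by
  apply (E X).map_injective
  rw [Functor.map_nsmul, CategoryTheory.Functor.map_id, Functor.map_zero, h]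

variable [AlgebraicGeometry.IsNoetherian X]

theorem isConstructible_sub {F G : EtCoh.Ab X} (ι : G ⟶ F) [Mono ι] (n : ℕ) (hn : 0 < n) (hk : n • 𝟙 F = 0)
    (hF : EtPBC.IsConstructible F) : EtPBC.IsConstructible G := by
  let eF := (E X).objObjPreimageIso F
  let eG := (E X).objObjPreimageIso G
  let ι' := (E X).preimage (eG.hom ≫ ι ≫ eF.inv)
  haveI : Mono ι' := (E X).mono_of_mono_map (by rw [Functor.map_preimage]; infer_instance)
  have h := Noeth.isConstructible_sub (isConstructible_mod_of_ab (isConstructible_of_iso eF.symm hF)) ι'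
  refine isConstructible_of_iso eG (isConstructible_ab_of_mod h n hn (nsmul_of_E ?_))
  rw [← cancel_mono (eG.hom ≫ ι), zero_comp, Preadditive.nsmul_comp, Category.id_comp]
  calc n • (eG.hom ≫ ι) = (eG.hom ≫ ι) ≫ (n • 𝟙 F) := by rw [Preadditive.comp_nsmul, Category.comp_id]
    _ = 0 := by rw [hk, comp_zero]

theorem isConstructible_quot {F Q : EtCoh.Ab X} (π : F ⟶ Q) [Epi π] (n : ℕ) (hn : 0 < n) (hk : n • 𝟙 F = 0)
    (hF : EtPBC.IsConstructible F) : EtPBC.IsConstructible Q := by
  let eF := (E X).objObjPreimageIso F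
  let eQ := (E X).objObjPreimageIso Q
  let π' := (E X).preimage (eF.hom ≫ π ≫ eQ.inv)
  haveI : Epi π' := (E X).epi_of_epi_map (by rw [Functor.map_preimage]; infer_instance)
  have h := Noeth.isConstructible_quot (isConstructible_mod_of_ab (isConstructible_of_iso eF.symm hF)) π'
  refine isConstructible_of_iso eQ (isConstructible_ab_of_mod h n hn (nsmul_of_E ?_))
  rw [← cancel_epi (π ≫ eQ.inv), comp_zero, Preadditive.comp_nsmul, Category.comp_id]
  calc n • (π ≫ eQ.inv) = (n • 𝟙 F) ≫ π ≫ eQ.inv := by rw [Preadditive.nsmul_comp, Category.id_comp]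
    _ = 0 := by rw [hk, zero_comp]

theorem exists_stationary {F : EtCoh.Ab X} (hF : EtPBC.IsConstructible F) (c : ℕ →o Subobject F) :
    ∃ N, ∀ m, N ≤ m → c m = c N := by
  let eF := (E X).objObjPreimageIso F
  haveI hN := Noeth.isNoetherianObject (isConstructible_mod_of_ab (isConstructible_of_iso eF.symm hF))
  let e (k : ℕ) := (E X).objObjPreimageIso (Subobject.underlying.obj (c k))
  let b (k : ℕ) := (E X).preimage ((e k).hom ≫ (c k).arrow ≫ eF.inv)
  haveI : ∀ k, Mono (b k) := fun k => (E X).mono_of_mono_map (by rw [Functor.map_preimage]; infer_instance)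
  let i (k : ℕ) := (E X).preimage ((e k).hom ≫ Subobject.ofLE _ _ (c.monotone (Nat.le_succ k)) ≫ (e (k + 1)).inv)
  have hib : ∀ k, i k ≫ b (k + 1) = b k := fun k => (E X).map_injective (by
    rw [Functor.map_comp, Functor.map_preimage, Functor.map_preimage, Functor.map_preimage]
    simp only [Category.assoc, Iso.inv_hom_id_assoc, Subobject.ofLE_arrow_assoc])
  obtain ⟨N, hN'⟩ := Noeth.exists_stationary (isConstructible_mod_of_ab (isConstructible_of_iso eF.symm hF))
    (fun k => (E X).objPreimage (Subobject.underlying.obj (c k))) i b hib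
  refine ⟨N, fun m hm => ?_⟩
  induction m, hm using Nat.le_induction with
  | base => rfl
  | succ m hm ih =>
    haveI := hN' m hm
    have hiso : IsIso ((e m).hom ≫ Subobject.ofLE _ _ (c.monotone (Nat.le_succ m)) ≫ (e (m + 1)).inv) := by
      rw [← Functor.map_preimage (E X) ((e m).hom ≫ _ ≫ (e (m + 1)).inv)]
      exact Functor.map_isIso (E X) (i m)
    haveI := @IsIso.of_isIso_comp_left _ _ _ _ _ _ _ _ hiso
    haveI := IsIso.of_isIso_comp_right (Subobject.ofLE _ _ (c.monotone (Nat.le_succ m))) (e (m + 1)).inv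
    exact (Subobject.eq_of_comm (asIso (Subobject.ofLE _ _ (c.monotone (Nat.le_succ m))))
      (Subobject.ofLE_arrow _)).symm.trans ih

end Groth.L28.Transfer
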