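import Groth.Agent.L28.LocConstAb.Serre
import Groth.Agent.L28.Strata.EtMod
import Groth.Agent.L28.Strata.Et
import Groth.Prelude.Def_EtModD2
import Mathlib.Algebra.Category.ModuleCat.Adjunctions
import Mathlib.CategoryTheory.Sites.ConstantSheaf
import Mathlib.CategoryTheory.Sites.Adjunction
import Mathlib.GroupTheory.FiniteAbelian.Basic

/-!
Abelian étale sheaves as sheaves of modules over the lifted integers.
-/

set_option autoImplicit false

universe u

open CategoryTheory CategoryTheory.Limits AlgebraicGeometry Opposite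

set_option backward.isDefEq.respectTransparency.types false

namespace Groth.L28.Transfer

/-- the integers in the coefficient universe -/
def Z : Type (u + 1) := ULift.{u + 1} ℤ

noncomputable instance : CommRing Z.{u} := inferInstanceAs (CommRing (ULift.{u + 1} ℤ))

instance : IsNoetherianRing Z.{u} :=
  isNoetherianRing_of_ringEquiv ℤ (ULift.ringEquiv : ULift.{u + 1} ℤ ≃+* ℤ).symm

/-- the underlying integer -/
noncomputable def Z.toInt (c : Z.{u}) : ℤ := ULift.down c

theorem Z.cast_toInt (c : Z.{u}) : (c.toInt : Z.{u}) = c :=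
  show ((ULift.down c : ℤ) : ULift.{u + 1} ℤ) = c from ULift.ext _ _ (by simp)

/-- the forgetful functor -/
noncomputable abbrev fg : ModuleCat.{u + 1} Z.{u} ⥤ AddCommGrpCat.{u + 1} := forget₂ _ _

theorem smul_eq {M : Type (u + 1)} [AddCommGroup M] [Module Z.{u} M] (c : Z.{u}) (x : M) : c • x = c.toInt • x :=
  (congrArg (fun r : Z.{u} => r • x) c.cast_toInt.symm).trans (Int.cast_smul_eq_zsmul Z.{u} c.toInt x)

/-- abelian groups are modules over the lifted integers -/
@[instance_reducible]
noncomputable def module (A : Type (u + 1)) [AddCommGroup A] : Module Z.{u} A :=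
  Module.compHom A (ULift.ringEquiv : ULift.{u + 1} ℤ ≃+* ℤ).toRingHom

instance full_fg : fg.{u}.Full where
  map_surjective {A B} f := ⟨ModuleCat.ofHom
    { toFun := f
      map_add' := map_add f.hom
      map_smul' := fun c x =>
        (congrArg f.hom (smul_eq (M := A) c x)).trans
          ((map_zsmul f.hom c.toInt x).trans (smul_eq (M := B) c (f.hom x)).symm) }, rfl⟩

instance essSurj_fg : fg.{u}.EssSurj where
  mem_essImage A := letI := module A; ⟨ModuleCat.of Z.{u} A, ⟨Iso.refl _⟩⟩

instance isEquivalence_fg : fg.{u}.IsEquivalence := {}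

variable {X Y : Scheme.{u}}

/-- sheaves of modules over the lifted integers are abelian sheaves -/
noncomputable abbrev E (X : Scheme.{u}) : EtModW.Mod Z.{u} X ⥤ EtCoh.Ab X := EtModD.forgetToAb Z.{u} X

instance essSurj_E : (E X).EssSurj where
  mem_essImage F :=
    ⟨(sheafCompose X.smallEtaleTopology fg.{u}.inv).obj F,
      ⟨(fullyFaithfulSheafToPresheaf _ _).preimageIso
        (Functor.associator _ _ _ ≪≫ Functor.isoWhiskerLeft F.obj fg.{u}.asEquivalence.counitIso ≪≫
          Functor.rightUnitor _)⟩⟩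

instance isEquivalence_E : (E X).IsEquivalence := {}

instance additive_E : (E X).Additive := Functor.additive_of_preserves_binary_products _

/-- direct images commute with forgetting the scalars -/
noncomputable def pushE (f : X ⟶ Y) : EtModW.push Z.{u} f ⋙ E Y ≅ E X ⋙ EtCoh.push f := Iso.refl _

/-- inverse images commute with forgetting the scalars -/
noncomputable def pullE (f : X ⟶ Y) : EtModW.pull Z.{u} f ⋙ E X ≅ E Y ⋙ EtCoh.pull f :=
  Adjunction.leftAdjointUniq
    ((Strata.pullPushAdjMod f).comp (E X).asEquivalence.toAdjunction)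
    (((E Y).asEquivalence.toAdjunction.comp (EtCoh.pullPushAdj f)).ofNatIsoRight
      (Functor.isoWhiskerLeft (EtCoh.push f) (Iso.refl _) ≪≫
        (Functor.leftUnitor _).symm ≪≫
        Functor.isoWhiskerRight (E X).asEquivalence.counitIso.symm _ ≪≫
        Functor.associator _ _ _ ≪≫
        Functor.isoWhiskerLeft (E X).inv ((Functor.associator _ _ _).symm ≪≫
          Functor.isoWhiskerRight (pushE f).symm _ ≪≫ Functor.associator _ _ _ ≪≫
          Functor.isoWhiskerLeft (EtModW.push Z.{u} f) (E Y).asEquivalence.unitIso.symm ≪≫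
          Functor.rightUnitor _)))

theorem finite_of_killed {M : Type (u + 1)} [AddCommGroup M] [Module Z.{u} M] [Module.Finite Z.{u} M] (m : ℕ)
    (hm : 0 < m) (h : ∀ x : M, m • x = 0) : Finite M := by
  haveI : Module.Finite ℤ M := by
    obtain ⟨S, hS⟩ := Module.Finite.fg_top (R := Z.{u}) (M := M)
    refine ⟨⟨S, eq_top_iff.2 fun x _ => ?_⟩⟩
    have hx : x ∈ Submodule.span Z.{u} (S : Set M) := hS ▸ Submodule.mem_top
    induction hx using Submodule.span_induction with
    | mem y hy => exact Submodule.subset_span hy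
    | zero => exact zero_mem _
    | add y z _ _ hy hz => exact add_mem (hy trivial) (hz trivial)
    | smul c y _ hy => rw [smul_eq]; exact Submodule.smul_mem _ _ (hy trivial)
  exact Module.finite_of_fg_torsion M fun x =>
    ⟨⟨(m : ℤ), mem_nonZeroDivisors_of_ne_zero (by exact_mod_cast hm.ne')⟩, by
      show (m : ℤ) • x = 0
      rw [natCast_zsmul]; exact h x⟩

instance preservesSheafification_fg {C : Type (u + 1)} [Category.{u} C] (J : GrothendieckTopology C) :
    J.PreservesSheafification fg.{u} :=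
  Sheaf.preservesSheafification_of_adjunction J fg.{u}.asEquivalence.toAdjunction

theorem isFT_of_isFLC {F : EtModW.Mod Z.{u} X} (h : EtCoh.IsFiniteLocallyConstant ((E X).obj F)) :
    EtModW.IsFTLocConst Z.{u} F := by
  obtain ⟨ι, U, hU, h⟩ := h
  refine ⟨ι, U, hU, fun i => ?_⟩
  obtain ⟨M, _, _, ⟨α⟩⟩ := h i
  letI := module (ULift.{u + 1} M)
  exact ⟨ULift.{u + 1} M, inferInstance, inferInstance, Module.Finite.of_finite,
    ⟨(sheafCompose (X.smallEtaleTopology.over (U i)) fg.{u}).preimageIso
      (α ≪≫ ((constantCommuteCompose (X.smallEtaleTopology.over (U i)) fg.{u}).app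
        (ModuleCat.of Z.{u} (ULift.{u + 1} M))).symm)⟩⟩

theorem isFLC_of_isFT {F : EtModW.Mod Z.{u} X} (h : EtModW.IsFTLocConst Z.{u} F) (m : ℕ) (hm : 0 < m)
    (hk : m • 𝟙 F = 0) : EtCoh.IsFiniteLocallyConstant ((E X).obj F) := by
  obtain ⟨ι, U, hU, h⟩ := h
  refine ⟨ι, U, hU, fun i => ?_⟩
  obtain ⟨M, _, _, _, ⟨α⟩⟩ := h i
  let N : ModuleCat.{u + 1} Z.{u} := ModuleCat.of Z.{u} M
  let C := LocConst.constOver (Λ := Z.{u}) (U i)
  have h0 : C.map (m • 𝟙 N) = 0 := by
    have hr : m • 𝟙 (EtModW.restr Z.{u} F (U i)) = 0 := by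
      rw [← CategoryTheory.Functor.map_id (LocConst.res (U i)), ← Functor.map_nsmul, hk, Functor.map_zero]
    rw [Functor.map_nsmul, CategoryTheory.Functor.map_id]
    have := congrArg (fun k => α.inv ≫ k ≫ α.hom) hr
    simp only [Preadditive.nsmul_comp, Preadditive.comp_nsmul, Category.id_comp, Iso.inv_hom_id, zero_comp,
      comp_zero] at this
    exact this
  haveI : Module.Finite Z.{u} (cokernel (m • 𝟙 N) : ModuleCat.{u + 1} Z.{u}) :=
    Module.Finite.equiv (ModuleCat.cokernelIsoRangeQuotient (m • 𝟙 N)).toLinearEquiv.symm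
  haveI : Finite (cokernel (m • 𝟙 N) : ModuleCat.{u + 1} Z.{u}) := by
    refine finite_of_killed m hm fun x => ?_
    obtain ⟨y, rfl⟩ := (ModuleCat.epi_iff_surjective (cokernel.π (m • 𝟙 N))).1 inferInstance x
    rw [← map_nsmul]
    exact (ConcreteCategory.congr_hom (cokernel.condition (m • 𝟙 N)) y)
  haveI : Finite (fg.{u}.obj (cokernel (m • 𝟙 N))) := inferInstanceAs (Finite (cokernel (m • 𝟙 N) : ModuleCat.{u + 1} Z.{u}))
  exact LocConstAb.exists_small (F := (E X).obj F) ⟨
    (sheafCompose (X.smallEtaleTopology.over (U i)) fg.{u}).mapIso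
      (α ≪≫ cokernelZeroIsoTarget.symm ≪≫ (cokernelIsoOfEq h0).symm ≪≫ (PreservesCokernel.iso C (m • 𝟙 N)).symm) ≪≫
      (constantCommuteCompose (X.smallEtaleTopology.over (U i)) fg.{u}).app _⟩

theorem isConstructible_mod_of_ab {F : EtModW.Mod Z.{u} X} (h : EtPBC.IsConstructible ((E X).obj F)) :
    EtModW.IsConstructible Z.{u} F := by
  rw [Strata.isConstructibleMod_iff]
  rw [Strata.isConstructible_iff] at h
  exact h.mono fun T g hg => isFT_of_isFLC (Strata.isFLC_of_iso ((pullE g).app F).symm hg)

theorem isConstructible_ab_of_mod {F : EtModW.Mod Z.{u} X} (h : EtModW.IsConstructible Z.{u} F) (m : ℕ)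
    (hm : 0 < m) (hk : m • 𝟙 F = 0) : EtPBC.IsConstructible ((E X).obj F) := by
  rw [Strata.isConstructible_iff]
  rw [Strata.isConstructibleMod_iff] at h
  exact h.mono fun T g hg => Strata.isFLC_of_iso ((pullE g).app F) (isFLC_of_isFT hg m hm (by
    haveI := EtModStalk.additive_pull (Λ := Z.{u}) g
    rw [← CategoryTheory.Functor.map_id, ← Functor.map_nsmul, hk, Functor.map_zero]))

end Groth.L28.Transfer
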