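import Groth.Agent.L28.Transfer.Constr

/-!
Adic systems of constructible abelian sheaves.
-/

set_option autoImplicit false

universe w w' v v' u u'

open CategoryTheory CategoryTheory.Limits AlgebraicGeometry Opposite

set_option backward.isDefEq.respectTransparency.types false

namespace Groth.L28.Transfer

attribute [local instance] Abelian.hasFiniteBiproducts

section General

variable {C : Type u} [Category.{v} C] [Preadditive C] {D : Type u'} [Category.{v'} D] [Preadditive D]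
  {A : Type w} [CommRing A] [Linear A C] {B : Type w'} [CommRing B] [Linear B D]

theorem homKilled_span (p k : ℕ) {X Y : C} (φ : X ⟶ Y) :
    ARSys.HomKilledBy (Ideal.span {(p : A)} ^ k) φ ↔ p ^ k • φ = 0 := by
  rw [Ideal.span_singleton_pow, ← Nat.cast_pow]
  constructor
  · intro h
    rw [← Nat.cast_smul_eq_nsmul A]
    exact h _ (Ideal.subset_span rfl)
  · intro h a ha
    obtain ⟨b, rfl⟩ := Ideal.mem_span_singleton'.1 ha
    rw [mul_smul, Nat.cast_smul_eq_nsmul A, h, smul_zero]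

theorem killed_span (p k : ℕ) (X : C) :
    ARSys.KilledBy (Ideal.span {(p : A)} ^ k) X ↔ p ^ k • 𝟙 X = 0 := homKilled_span p k (𝟙 X)

theorem isAdic_map {Φ : C ⥤ D} {R : D ⥤ C} (adj : Φ ⊣ R) [Φ.Additive] [R.Additive] (p : ℕ) {F : ARSys.PS C}
    (hF : ARSys.IsAdic (Ideal.span {(p : A)}) F) : ARSys.IsAdic (Ideal.span {(p : B)}) (F ⋙ Φ) := by
  have hk : ∀ (k : ℕ) (X : C), ARSys.KilledBy (Ideal.span {(p : A)} ^ k) X →
      ARSys.KilledBy (Ideal.span {(p : B)} ^ k) (Φ.obj X) := fun k X h => by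
    rw [killed_span] at h ⊢
    rw [← CategoryTheory.Functor.map_id, ← Functor.map_nsmul, h, Functor.map_zero]
  refine ⟨fun n => hk _ _ (hF.1 n), fun n m h => ⟨hk _ _ (hF.1 n), fun Y φ hφ => ?_⟩⟩
  rw [homKilled_span] at hφ
  obtain ⟨ψ, hψ, huniq⟩ := (hF.2 n m h).2 (R.obj Y) (adj.homEquiv _ _ φ) (by
    rw [homKilled_span, adj.homEquiv_unit, ← Preadditive.comp_nsmul, ← Functor.map_nsmul, hφ, Functor.map_zero,
      comp_zero])
  refine ⟨(adj.homEquiv _ _).symm ψ, ?_, fun ψ' hψ' => ?_⟩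
  · show Φ.map _ ≫ (adj.homEquiv _ _).symm ψ = φ
    rw [← Adjunction.homEquiv_naturality_left_symm, hψ, Equiv.symm_apply_apply]
  · rw [← huniq (adj.homEquiv _ _ ψ') ?_, Equiv.symm_apply_apply]
    show _ ≫ adj.homEquiv _ _ ψ' = adj.homEquiv _ _ φ
    rw [← Adjunction.homEquiv_naturality_left]
    exact congrArg _ hψ'

end General

variable {Λ : Type (u + 1)} [CommRing Λ] [IsNoetherianRing Λ] {X : Scheme.{u}} [AlgebraicGeometry.IsNoetherian X]

theorem closed_isConstructible : Lisse.Closed (fun F : EtModW.Mod Λ X => EtModW.IsConstructible Λ F) where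
  of_iso e h := Strata.isConstructibleMod_of_iso e h
  ker f h h' := (Strata.isConstructibleMod_kernel_cokernel f h h').1
  coker f h h' := (Strata.isConstructibleMod_kernel_cokernel f h h').2
  ext hS h1 h3 := Strata.isConstructibleMod_extension hS h1 h3
  pow ι _ F h := by
    rw [Strata.isConstructibleMod_iff] at h ⊢
    exact h.mono fun T g hg => (Lisse.closed_pull g).pow ι F hg

theorem isConstructible_adic {I : Ideal Λ} {F : ARSys.PS (EtModW.Mod Λ X)} (hF : ARSys.IsAdic I F)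
    (h0 : EtModW.IsConstructible Λ (F.obj (op 0))) (n : ℕ) : EtModW.IsConstructible Λ (F.obj (op n)) := by
  obtain ⟨r, x, hx⟩ := Submodule.fg_iff_exists_fin_generating_family.1 ((isNoetherianRing_iff_ideal_fg Λ).1 ‹_› I)
  have hxI : ∀ i, x i ∈ I := fun i => hx ▸ Ideal.subset_span ⟨i, rfl⟩
  induction n with
  | zero => exact h0
  | succ n ih =>
    refine Lisse.lisse_step hF x hxI closed_isConstructible hx n h0 ih ?_
    exact Noeth.isConstructible_sub (closed_isConstructible.pow _ _ h0) (kernel.ι _)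

theorem exists_mod_system {X : Scheme.{u}} (p : ℕ) {F : ARSys.PS (EtCoh.Ab X)}
    (hF : ARSys.IsAdic (Ideal.span {(p : ℤ)}) F) :
    ∃ G : ARSys.PS (EtModW.Mod Z.{u} X), ARSys.IsAdic (Ideal.span {(p : Z.{u})}) G ∧
      Nonempty (∀ n, (E X).obj (G.obj (op n)) ≅ F.obj (op n)) ∧ ∀ n, p ^ (n + 1) • 𝟙 (G.obj (op n)) = 0 := by
  have adj : (E X).inv ⊣ E X := (E X).asEquivalence.symm.toAdjunction
  haveI : (E X).inv.Additive := adj.left_adjoint_additive
  have h := isAdic_map (A := ℤ) (B := Z.{u}) adj p hF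
  exact ⟨F ⋙ (E X).inv, h, ⟨fun n => (E X).asEquivalence.counitIso.app _⟩,
    fun n => (killed_span (A := Z.{u}) p (n + 1) _).1 (h.1 n)⟩

theorem isConstructible_adic_ab (p : ℕ) (hp : 0 < p) {F : ARSys.PS (EtCoh.Ab X)}
    (hF : ARSys.IsAdic (Ideal.span {(p : ℤ)}) F) (h0 : EtPBC.IsConstructible (F.obj (op 0))) (n : ℕ) :
    EtPBC.IsConstructible (F.obj (op n)) := by
  obtain ⟨G, hG, ⟨e⟩, hk⟩ := exists_mod_system p hF
  exact isConstructible_of_iso (e n) (isConstructible_ab_of_mod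
    (isConstructible_adic hG (isConstructible_mod_of_ab (isConstructible_of_iso (e 0).symm h0)) n) _
    (Nat.pow_pos hp) (hk n))

theorem strat_lisse_ab (p : ℕ) (hp : 0 < p) {F : ARSys.PS (EtCoh.Ab X)}
    (hF : ARSys.IsAdic (Ideal.span {(p : ℤ)}) F) (hc : ∀ n : ℕ, EtPBC.IsConstructible (F.obj (op n))) :
    Strata.Strat X (fun _ g => ∀ n : ℕ, Strata.lcPred (F.obj (op n)) g) := by
  obtain ⟨G, hG, ⟨e⟩, hk⟩ := exists_mod_system p hF
  refine (Lisse.strat_lisse _ G hG fun n => isConstructible_mod_of_ab (isConstructible_of_iso (e n).symm (hc n))).mono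
    fun T g hg n => ?_
  haveI := EtModStalk.additive_pull (Λ := Z.{u}) g
  exact Strata.isFLC_of_iso ((pullE g).app _ ≪≫ (EtCoh.pull g).mapIso (e n))
    (isFLC_of_isFT (hg n) _ (Nat.pow_pos hp) (by
      rw [← CategoryTheory.Functor.map_id, ← Functor.map_nsmul, hk, Functor.map_zero]))

omit [AlgebraicGeometry.IsNoetherian X] in
theorem isConstructible_adic_local [IsLocallyNoetherian X] (p : ℕ) (hp : 0 < p) {F : ARSys.PS (EtCoh.Ab X)}
    (hF : ARSys.IsAdic (Ideal.span {(p : ℤ)}) F) (h0 : EtPBC.IsConstructible (F.obj (op 0))) (n : ℕ) :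
    EtPBC.IsConstructible (F.obj (op n)) := by
  rw [Strata.isConstructible_iff] at h0 ⊢
  refine Strata.loc_of_cover (Strata.stable_lcPred _) (ι := X.affineOpens) (fun U => U.1) (iSup_affineOpens_eq_top X)
    fun U => ?_
  haveI : CompactSpace U.1 := isCompact_iff_compactSpace.1 U.2.isCompact
  haveI : AlgebraicGeometry.IsNoetherian (U.1 : Scheme.{u}) := {}
  haveI : (EtCoh.pull U.1.ι).Additive := (EtCoh.pullPushAdj U.1.ι).left_adjoint_additive
  have h := isConstructible_adic_ab p hp (isAdic_map (A := ℤ) (B := ℤ) (EtCoh.pullPushAdj U.1.ι) p hF)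
    (by
      rw [Strata.isConstructible_iff]
      exact (h0.pullback (Strata.stable_lcPred _) U.1.ι).mono fun T g hg => (Strata.lcPred_comp _ U.1.ι g).2 hg) n
  rw [Strata.isConstructible_iff] at h
  exact h.mono fun T g hg => (Strata.lcPred_comp (F.obj (op n)) U.1.ι g).1 hg

end Groth.L28.Transfer
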